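import Cfsg.Agent.Lib.Co.MV

/-!
A bilinear cocycle on the Leech lattice modulo 2 and the Heisenberg representation of degree 4096.
-/

set_option autoImplicit false
set_option maxRecDepth 100000

namespace CA.Gr
open Cfsg CA.Gol CA.Co Matrix

/-- binary words -/
abbrev Wd : Type := GolayPt → ZMod 2
/-- the Golay code as a type -/
abbrev CC : Type := ↥golayCode
/-- the ground field -/
abbrev FF : Type := ZMod 257

instance fact257 : Fact (Nat.Prime 257) := ⟨by norm_num⟩
noncomputable instance fintypeCC : Fintype CC := Fintype.ofFinite _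
noncomputable instance decEqCC : DecidableEq CC := Classical.decEq _

theorem z2 (a : ZMod 2) : a + a = 0 := CharTwo.add_self_eq_zero a
theorem cc2 (a : CC) : a + a = 0 := ZModModule.add_self a

/-! ### weights -/

/-- the weight -/
def wt (w : Wd) : ℕ := (support₂ w).card
/-- a word as an integer vector -/
def iw (w : Wd) : ZV := iz (support₂ w)
/-- unit words -/
def ew (i : GolayPt) : Wd := Pi.single i 1
/-- the standard bilinear form -/
def ip (a b : Wd) : ZMod 2 := ∑ p, a p * b p

theorem iw_cases (w : Wd) (p : GolayPt) : (w p = 0 ∧ iw w p = 0) ∨ (w p = 1 ∧ iw w p = 1) := by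
  rcases zmod2_cases (w p) with h | h <;> simp [iw, iz, mem_support, h]
theorem cast_iw (w : Wd) (p : GolayPt) : ((iw w p : ℤ) : ZMod 2) = w p := by
  rcases iw_cases w p with h | h <;> simp [h.1, h.2]
theorem sum_iw (w : Wd) : ∑ p, iw w p = wt w := sum_iz _
theorem iw_mul (a b : Wd) (p : GolayPt) : iw (a * b) p = iw a p * iw b p := by
  rcases iw_cases a p with h | h <;> rcases iw_cases b p with k | k <;> rcases iw_cases (a * b) p with l | l <;>
    simp_all
theorem iw_add (a b : Wd) (p : GolayPt) : iw (a + b) p + 2 * iw (a * b) p = iw a p + iw b p := by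
  rw [iw_mul]
  rcases iw_cases a p with h | h <;> rcases iw_cases b p with k | k <;> rcases iw_cases (a + b) p with l | l <;>
    simp_all [z2]
theorem wt_add (a b : Wd) : wt (a + b) + 2 * wt (a * b) = wt a + wt b := by
  zify
  simp only [← sum_iw, Finset.mul_sum, ← Finset.sum_add_distrib, iw_add]
theorem cast_wt (w : Wd) : (wt w : ZMod 2) = ∑ p, w p := by
  rw [← Int.cast_natCast, ← sum_iw, Int.cast_sum]; simp only [cast_iw]
theorem ip_eq (a b : Wd) : ip a b = (wt (a * b) : ZMod 2) := by rw [cast_wt]; rfl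
theorem ip_comm (a b : Wd) : ip a b = ip b a := by simp only [ip, mul_comm]
theorem ip_add_left (a b c : Wd) : ip (a + b) c = ip a c + ip b c := by
  simp only [ip, Pi.add_apply, add_mul, Finset.sum_add_distrib]
theorem ip_add_right (a b c : Wd) : ip a (b + c) = ip a b + ip a c := by
  simp only [ip, Pi.add_apply, mul_add, Finset.sum_add_distrib]
theorem ip_smul_right (t : ZMod 2) (a b : Wd) : ip a (t • b) = t * ip a b := by
  simp only [ip, Pi.smul_apply, smul_eq_mul, Finset.mul_sum, mul_left_comm]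
@[simp] theorem ip_zero_left (a : Wd) : ip 0 a = 0 := by simp [ip]
@[simp] theorem ip_zero_right (a : Wd) : ip a 0 = 0 := by simp [ip]
theorem ew_apply (i p : GolayPt) : ew i p = if p = i then 1 else 0 := Pi.single_apply _ _ _
@[simp] theorem ip_ew_left (i : GolayPt) (a : Wd) : ip (ew i) a = a i := by simp [ip, ew_apply]
@[simp] theorem ip_ew_right (i : GolayPt) (a : Wd) : ip a (ew i) = a i := by simp [ip, ew_apply]
theorem ip_mul (a b c : Wd) : ip (a * b) c = ip a (b * c) := by simp only [ip, Pi.mul_apply, mul_assoc]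
theorem ip_one (a : Wd) : ip a 1 = ∑ p, a p := by simp [ip]
theorem wt_ew (i : GolayPt) : wt (ew i) = 1 := by
  rw [wt, show support₂ (ew i) = {i} from by ext p; simp [mem_support, ew_apply]]; rfl
theorem wt_zero : wt 0 = 0 := by simp [wt, support₂]
theorem wt_one : wt 1 = 24 := by simp [wt, support₂, card_golayPt]
theorem eq_zero_of_wt {w : Wd} (h : wt w = 0) : w = 0 := by
  rw [← ind_support w, Finset.card_eq_zero.1 h, ind_empty]
theorem wt_le_add (a b : Wd) : wt (a + b) ≤ wt a + wt b := by have := wt_add a b; omega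
theorem wd_mul_self (a : Wd) : a * a = a := funext fun p => by
  rcases zmod2_cases (a p) with h | h <;> simp [h]
theorem wd_add_self (a : Wd) : a + a = 0 := funext fun p => z2 _
theorem even_wt {w : Wd} (h : ∑ p, w p = 0) : 2 ∣ wt w := by
  rwa [← cast_wt, ZMod.natCast_eq_zero_iff] at h

theorem wt_cases (c : CC) : wt c = 0 ∨ wt c = 8 ∨ wt c = 12 ∨ wt c = 16 ∨ wt c = 24 :=
  card_CW (support_mem_CW.2 c.2)
theorem support_mul (a b : Wd) : support₂ (a * b) = support₂ a ∩ support₂ b := by
  ext p; simp only [support₂, Finset.mem_filter, Finset.mem_inter, Finset.mem_univ, true_and, Pi.mul_apply]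
  exact mul_ne_zero_iff
theorem ip_code (c d : CC) : ip c d = 0 := by
  rw [ip_eq, wt, support_mul]
  exact (ZMod.natCast_eq_zero_iff_even).2 (even_card_inter (support_mem_CW.2 c.2) (support_mem_CW.2 d.2))
theorem mem_of_ip {w : Wd} (h : ∀ c : CC, ip w c = 0) : w ∈ golayCode :=
  support_mem_CW.1 <| mem_CW_of_even fun c hc => by
    have := h ⟨ind c, mem_CW.1 hc⟩
    rwa [ip_eq, wt, support_mul, support_ind, ZMod.natCast_eq_zero_iff_even] at this
theorem eq_zero_of_small {w : Wd} (h : w ∈ golayCode) (h8 : wt w < 8) : w = 0 :=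
  eq_zero_of_wt (by have := wt_cases ⟨w, h⟩; dsimp only at this; omega)

/-- the all one word -/
def Om : CC := ⟨1, one_mem_golay⟩
@[simp] theorem Om_val : (Om : Wd) = 1 := rfl
theorem sum_code (c : CC) : ∑ p, (c : Wd) p = 0 := by rw [← ip_one]; exact ip_code c Om
/-- half the weight -/
def hw (w : Wd) : ZMod 2 := (wt w / 2 : ℕ)
/-- a quarter of the weight -/
def PP (w : Wd) : ZMod 2 := (wt w / 4 : ℕ)
theorem hw_add {a b : Wd} (ha : ∑ p, a p = 0) (hb : ∑ p, b p = 0) : hw (a + b) = hw a + hw b + ip a b := by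
  have := wt_add a b
  obtain ⟨k, hk⟩ := even_wt ha
  obtain ⟨l, hl⟩ := even_wt hb
  rw [hw, hw, hw, ip_eq, ← Nat.cast_add, show wt a / 2 + wt b / 2 = wt (a + b) / 2 + wt (a * b) by omega,
    Nat.cast_add, add_assoc, z2, add_zero]
theorem hw_code (c : CC) : hw c = 0 := by
  rcases wt_cases c with h | h | h | h | h <;> rw [hw, h] <;> rfl
theorem PP_add (c d : CC) : PP (c + d : CC) = PP c + PP d + hw ((c : Wd) * d) := by
  have := wt_add c d
  have h1 := wt_cases c
  have h2 := wt_cases d
  have h3 := wt_cases (c + d)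
  rw [PP, PP, PP, hw, ← Nat.cast_add, show wt c / 4 + wt d / 4 = wt (c + d : CC) / 4 + wt ((c : Wd) * d) / 2 by
    rw [Submodule.coe_add] at h3 ⊢; omega, Nat.cast_add, add_assoc, z2, add_zero]
theorem PP_add_Om (c : CC) : PP (c + Om : CC) = PP c := by
  rw [PP_add, Om_val, mul_one, hw_code, show PP 1 = 0 by rw [PP, wt_one]; rfl, add_zero, add_zero]

/-! ### the lattice modulo 2 -/

/-- the inner product modulo 2 -/
def dp (v w : LL) : ZMod 2 := ((dotInt (v : ZV) w / 8 : ℤ) : ZMod 2)
/-- the quadratic form modulo 2 -/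
def qq (v : LL) : ZMod 2 := ((sqNorm (v : ZV) / 16 : ℤ) : ZMod 2)
theorem dp_of {v w : LL} {k : ℤ} (h : dotInt (v : ZV) w = 8 * k) : dp v w = k := by
  rw [dp, h, Int.mul_ediv_cancel_left _ (by norm_num)]
theorem dp_comm (v w : LL) : dp v w = dp w v := by rw [dp, dp, dot_comm]
theorem dp_add (u v w : LL) : dp u (v + w) = dp u v + dp u w := by
  obtain ⟨a, ha⟩ := eight_dvd_dot u.2 v.2
  obtain ⟨b, hb⟩ := eight_dvd_dot u.2 w.2
  rw [dp_of ha, dp_of hb, dp_of (k := a + b) (by rw [AddSubgroup.coe_add, dot_add]; omega), Int.cast_add]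
theorem dp_eq_zero {v w : LL} : dp v w = 0 ↔ 16 ∣ dotInt (v : ZV) w := by
  obtain ⟨a, ha⟩ := eight_dvd_dot v.2 w.2
  rw [dp_of ha, ZMod.intCast_zmod_eq_zero_iff_dvd]; omega
theorem qq_add (v w : LL) : qq (v + w) = qq v + qq w + dp v w := by
  obtain ⟨a, ha⟩ := eight_dvd_dot v.2 w.2
  obtain ⟨b, hb⟩ := sixteen_dvd v.2
  obtain ⟨c, hc⟩ := sixteen_dvd w.2
  rw [dp_of ha, qq, qq, qq, AddSubgroup.coe_add, sqNorm_add, ← Int.cast_add, ← Int.cast_add]
  congr 1; omega
theorem qq_of {v : LL} {k : ℤ} (h : sqNorm (v : ZV) = 16 * k) : qq v = k := by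
  rw [qq, h, Int.mul_ediv_cancel_left _ (by norm_num)]
theorem dp_co (g : Co0) (v w : LL) : dp (g • v) (g • w) = dp v w := by rw [dp, dp, co_dot]
theorem qq_co (g : Co0) (v : LL) : qq (g • v) = qq v := by rw [qq, qq, co_norm]

/-- `dp` as a biadditive map -/
def dpH : LL →+ LL →+ ZMod 2 := AddMonoidHom.mk' (fun v => AddMonoidHom.mk' (dp v) (dp_add v)) fun u v => by
  ext w; simp only [AddMonoidHom.mk'_apply, AddMonoidHom.add_apply, dp_comm _ w, dp_add]
theorem dp_add_left (u v w : LL) : dp (u + v) w = dp u w + dp v w := by simp only [dp_comm _ w, dp_add]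

/-- the vectors `(-3, 1^23)` -/
def lam (i : GolayPt) : LL := ⟨fun p => 1 - 4 * iz {i} p, one_sub_mem (by simp)⟩
theorem dot_lam (v : ZV) (i : GolayPt) : dotInt v (lam i) = ∑ p, v p - 4 * v i := by
  simp [dotInt, lam, iz, mul_sub, Finset.sum_sub_distrib, mul_comm]

theorem dp_lam {v : LL} {m k t : ℤ} {c : Wd} {y : ZV} (h : ∀ p, (v : ZV) p = m + 2 * iw c p + 4 * y p)
    (hk : (wt c : ℤ) = 4 * k) (ht : ∑ p, y p = m + 2 * t) (i : GolayPt) : dp v (lam i) = c i + (m + k + t : ℤ) := by
  rw [dp_of (k := iw c i + (m + k + t) + 2 * (m - y i - iw c i)) (by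
    rw [dot_lam, sum_LS h, h i]; unfold wt at hk; omega)]
  simp [cast_iw, show (2 : ZMod 2) = 0 from rfl]

theorem ee_mem (v : LL) : (fun i => dp v (lam i)) ∈ golayCode := by
  obtain ⟨m, c, y, hc, e, t, ht⟩ := mem_leech.1 v.2
  obtain ⟨k, hk⟩ := four_dvd_card hc
  have := dp_lam (c := ind c) (v := v) (m := m) (y := y) (k := k) (t := t) (by simpa [iw] using e)
    (by simpa [wt] using hk) (by omega)
  rw [show (fun i => dp v (lam i)) = ind c + ((m + k + t : ℤ) : ZMod 2) • (1 : Wd) from funext fun i => by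
    simp [this]]
  exact add_mem (mem_CW.1 hc) (Submodule.smul_mem _ _ Om.2)

/-- the code word of a lattice vector -/
def ee : LL →+ CC := AddMonoidHom.mk' (fun v => ⟨_, ee_mem v⟩) fun v w =>
  Subtype.ext (funext fun i => dp_add_left v w (lam i))
theorem ee_apply (v : LL) (i : GolayPt) : (ee v : Wd) i = dp v (lam i) := rfl
theorem ee_eq {v : LL} {m k t : ℤ} {c : CC} {y : ZV} (h : ∀ p, (v : ZV) p = m + 2 * iw c p + 4 * y p)
    (hk : (wt c : ℤ) = 4 * k) (ht : ∑ p, y p = m + 2 * t) : ee v = c + ((m + k + t : ℤ) : ZMod 2) • Om :=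
  Subtype.ext (funext fun i => by simp [ee_apply, dp_lam h hk ht])

/-- a totally singular complement -/
def muT : ℕ := 0x808080828282808080828082808282827e82827e7e7e7e7e8280828280808082828280828082808080808080808080808082828282808282808280808080828080808080808080808080828282828082828082808080808280808080808080808080808282828280828280828080808082808080808080808282828082828080828280808080808080828080808080808280828280828280808282808080808080808280808080808280808282808282808082827c80808080848082808080808082828082828280808082827c84808080808080828080808282808280828080828082827c80848080808080808280808082808082808082828282827c80808080808480808082807e7e8080807e7e7e807e807e7c808084808080808080807e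
theorem muT_ok : allLt (fun k => isLP (fld 192 muT k)) 12 = true := by decide +kernel
open Classical in
/-- a vector as a lattice element -/
noncomputable def toL (x : ZV) : LL := if h : x ∈ leechLattice then ⟨x, h⟩ else 0
theorem coe_toL {x : ZV} (h : x ∈ leechLattice) : (toL x : ZV) = x := by rw [toL, dif_pos h]
/-- the chosen basis of the complement -/
noncomputable def mu (k : ℕ) : LL := toL (vec (fld 192 muT k))
theorem coe_mu {k : ℕ} (h : k < 12) : (mu k : ZV) = vec (fld 192 muT k) := coe_toL (isLP_mem (allLt_iff.1 muT_ok k h))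

/-- the cocycle -/
noncomputable def ph : LL →+ CC →+ ZMod 2 := AddMonoidHom.mk' (fun v => AddMonoidHom.mk'
    (fun d => ∑ k ∈ Finset.range 12, (d : Wd) (pt k) * dp v (mu k)) fun c d => by
      simp only [Submodule.coe_add, Pi.add_apply, add_mul, Finset.sum_add_distrib]) fun v w => by
  ext d
  simp only [AddMonoidHom.mk'_apply, AddMonoidHom.add_apply, dp_add_left, mul_add, Finset.sum_add_distrib]
theorem ph_apply (v : LL) (d : CC) : ph v d = ∑ k ∈ Finset.range 12, (d : Wd) (pt k) * dp v (mu k) := rfl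

theorem gen_ind {A : Type*} [AddGroup A] {f : LL →+ A} (h : ∀ k (hk : k < 37), f ⟨_, genV_mem hk⟩ = 0) (v : LL) :
    f v = 0 := by
  obtain ⟨w, hw, e⟩ := leech_le_gen (H := f.ker.map leechLattice.subtype) (fun k hk => ⟨_, h k hk, rfl⟩) v.2
  rwa [← show w = v from Subtype.ext e]

/-- packed `lam` -/
def lamP (i : ℕ) : ℕ := Nat.sub 0x818181818181818181818181818181818181818181818181 (Nat.shiftLeft 4 (Nat.mul 8 i))
theorem lam_vec : ∀ i < 12, (lam (pt i) : ZV) = vec (lamP i) := by decide +kernel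
/-- the computed cocycle -/
def phC (a b : ℕ) : ℕ := sumLt (fun k => Nat.mul (Int.natAbs (Int.ediv (dz b (lamP k)) 8))
  (Int.natAbs (Int.ediv (dz a (fld 192 muT k)) 8))) 12
theorem cast_natAbs (a : ℤ) : ((a.natAbs : ℕ) : ZMod 2) = a := by
  rw [← Int.cast_natCast]
  rcases Int.natAbs_eq a with h | h
  · rw [← h]
  · conv_rhs => rw [h, Int.cast_neg, CharTwo.neg_eq]
theorem ph_vec {v w : LL} {a b : ℕ} (ha : (v : ZV) = vec a) (hb : (w : ZV) = vec b) : ph v (ee w) = phC a b := by
  rw [ph_apply, phC, sumLt_eq, Nat.cast_sum]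
  refine Finset.sum_congr rfl fun k hk => ?_
  have hk := Finset.mem_range.1 hk
  rw [ee_apply, dp, dp, ha, hb, coe_mu hk, lam_vec k hk, dot_vec, dot_vec, Nat.mul_eq, Nat.cast_mul,
    cast_natAbs, cast_natAbs]
  rfl
theorem gen_ck : allLt (fun a => force (fld 192 genV a) fun A =>
    Nat.beq (Nat.mod (Nat.add (phC A A) (Int.natAbs (Int.ediv (dz A A) 16))) 2) 0 &&
    allLt (fun b => force (fld 192 genV b) fun B =>
      Nat.beq (Nat.mod (Nat.add (Nat.add (phC A B) (phC B A)) (Int.natAbs (Int.ediv (dz A B) 8))) 2) 0) a) 37 = true := by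
  decide +kernel

theorem dp_self (v : LL) : dp v v = 0 := dp_eq_zero.2 (sqNorm_eq_dot (v : ZV) ▸ sixteen_dvd v.2)
theorem z2_of_mod {a : ℕ} (h : Nat.beq (Nat.mod a 2) 0 = true) : (a : ZMod 2) = 0 :=
  (ZMod.natCast_eq_zero_iff a 2).2 (Nat.dvd_of_mod_eq_zero (beq_iff.1 h))

theorem ph_polar (v w : LL) : ph v (ee w) + ph w (ee v) = dp v w := by
  let f : LL →+ LL →+ ZMod 2 := ph.compl₂ ee + (ph.compl₂ ee).flip + dpH
  have hf : ∀ v w, f v w = ph v (ee w) + ph w (ee v) + dp v w := fun _ _ => rfl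
  have sy : ∀ v w, f v w = f w v := fun v w => by rw [hf, hf, dp_comm v, add_comm (ph v _)]
  have lt : ∀ a (ha : a < 37) b (hb : b < 37), b < a → f ⟨_, genV_mem ha⟩ ⟨_, genV_mem hb⟩ = 0 := fun a ha b hb h => by
    have := allLt_iff.1 gen_ck a ha
    rw [force_eq, Bool.and_eq_true] at this
    have := allLt_iff.1 this.2 b h
    rw [force_eq] at this
    rw [hf, ph_vec rfl rfl, ph_vec rfl rfl, dp, dot_vec, ← cast_natAbs, ← Nat.cast_add, ← Nat.cast_add]
    exact z2_of_mod this
  have : f v w = 0 := by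
    rw [show f v = 0 from gen_ind (fun a ha => AddMonoidHom.ext (gen_ind fun b hb => ?_)) v]; · rfl
    rcases lt_trichotomy b a with h | rfl | h
    · exact lt a ha b hb h
    · rw [hf, z2, dp_self, add_zero]
    · rw [sy]; exact lt b hb a ha h
  rw [hf] at this
  exact eq_of_sub_eq_zero (by rwa [CharTwo.sub_eq_add])

theorem ph_self (v : LL) : ph v (ee v) = qq v := by
  let f : LL →+ ZMod 2 := AddMonoidHom.mk' (fun v => ph v (ee v) + qq v) fun v w => by
    simp only [map_add, AddMonoidHom.add_apply, qq_add, ← ph_polar v w]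
    linear_combination z2 (ph v (ee w)) + z2 (ph w (ee v))
  have : f v = 0 := gen_ind (fun a ha => by
    have := allLt_iff.1 gen_ck a ha
    rw [force_eq, Bool.and_eq_true] at this
    change ph _ _ + qq _ = 0
    rw [ph_vec rfl rfl, qq, norm_vec, ← cast_natAbs, ← Nat.cast_add]
    exact z2_of_mod this.1) v
  exact eq_of_sub_eq_zero (by rwa [CharTwo.sub_eq_add])

theorem cg_iff {v w : LL} : Cg v w ↔ ∃ u : LL, v = w + (u + u) :=
  ⟨fun ⟨u, hu, e⟩ => ⟨⟨u, hu⟩, Subtype.ext (by simp [← two_smul ℤ u, ← e])⟩,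
    fun ⟨u, e⟩ => ⟨u, u.2, by simp [e, two_smul]⟩⟩
theorem ee_cg {v w : LL} (h : Cg v w) : ee v = ee w := by
  obtain ⟨u, rfl⟩ := cg_iff.1 h; simp [cc2]
theorem ph_cg {v w : LL} (h : Cg v w) : ph v = ph w := by
  obtain ⟨u, rfl⟩ := cg_iff.1 h; ext d; simp [z2]
theorem dp_cg {v w : LL} (h : Cg v w) (u : LL) : dp v u = dp w u := by
  obtain ⟨u, rfl⟩ := cg_iff.1 h; simp [z2, dp_add_left]
@[simp] theorem ee_neg (v : LL) : ee (-v) = ee v := by rw [map_neg, ZModModule.neg_eq_self]
@[simp] theorem ph_neg (v : LL) : ph (-v) = ph v := ph_cg (cg_neg v.2)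
theorem ee_sub (v w : LL) : ee (v - w) = ee v + ee w := by rw [sub_eq_add_neg, map_add, ee_neg]
theorem ph_sub (v w : LL) (g : CC) : ph (v - w) g = ph v g + ph w g := by
  rw [sub_eq_add_neg, map_add, ph_neg]; rfl

theorem cg_zero_of_dp {v : LL} (h : ∀ w, dp v w = 0) : Cg v 0 := by
  by_contra hn
  let M : AddSubgroup ZV := (dpH.ker).map leechLattice.subtype
  have hM : InvM M := invM_of (fun x hx => ⟨⟨x, hx⟩ + ⟨x, hx⟩, by
      rw [SetLike.mem_coe, AddMonoidHom.mem_ker, map_add]; ext w; exact z2 _, (two_smul ℤ x).symm⟩)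
    (AddSubgroup.map_subtype_le _) (by
      rintro g v ⟨w, hw, e⟩
      obtain rfl : w = v := Subtype.ext e
      refine ⟨_, AddMonoidHom.ext fun u => ?_, rfl⟩
      rw [← smul_inv_smul g u]
      exact (dp_co g w _).trans (DFunLike.congr_fun hw _))
  have := hM.irred (x := v) ⟨v, AddMonoidHom.ext h, rfl⟩ fun ⟨w, hw, e⟩ => hn ⟨w, hw, by rw [sub_zero, e]⟩
  obtain ⟨w, hw, e⟩ : (lam (pt 0) : ZV) ∈ M := by rw [this]; exact (lam _).2
  obtain rfl : w = lam (pt 0) := Subtype.ext e
  have := dp_eq_zero.1 (DFunLike.congr_fun hw (E8 (pt 0)))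
  rw [coe_E8, dot_e8] at this
  simp [lam, iz] at this

theorem cg_zero_iff' {v : LL} : Cg v 0 ↔ ee v = 0 ∧ ∀ g, ph v g = 0 :=
  ⟨fun h => ⟨(ee_cg (w := 0) h).trans (map_zero _), fun g => by rw [ph_cg (w := 0) h, map_zero]; rfl⟩,
    fun h => cg_zero_of_dp fun w => by rw [← ph_polar, h.1, h.2, map_zero, add_zero]⟩

/-! ### standard vectors -/

theorem ee_E8 (p : GolayPt) : ee (E8 p) = Om := Subtype.ext <| funext fun i => by
  rw [ee_apply, dp_comm, dp_of (k := 1 - 2 * (2 * iz {i} p)) (by rw [coe_E8, dot_e8]; simp [lam]; ring)]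
  simp [show (2 : ZMod 2) = 0 from rfl]
theorem ph_E8 (p : GolayPt) (g : CC) : ph (E8 p) g = 0 := by
  rw [ph_cg (w := E8 (pt 0)) (cg_e8 _ _), ph_apply]
  refine Finset.sum_eq_zero fun k hk => ?_
  have hk := Finset.mem_range.1 hk
  have : ∀ k < 12, 2 ∣ vec (fld 192 muT k) (pt 0) := by decide +kernel
  rw [dp_comm, dp_eq_zero.2, mul_zero]
  have := this k hk
  rw [coe_E8, dot_e8, coe_mu hk]; omega
theorem ph_Om (v : LL) (p : GolayPt) : ph v Om = ((v : ZV) p : ℤ) := by
  have := ph_polar v (E8 p)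
  rwa [ee_E8, ph_E8, add_zero, dp_of (by rw [coe_E8, dot_e8])] at this
theorem ee_lam (i : GolayPt) : ee (lam i) = 0 := by
  rw [ee_eq (m := 1) (k := 0) (t := -1) (c := 0) (y := -iz {i}) (fun p => by simp [lam, iw, support₂, iz]; rfl)
    (by simp [wt_zero]) (by simp only [Pi.neg_apply, Finset.sum_neg_distrib, sum_iz]; rfl)]
  simp

/-- twice a code word -/
def n2 (c : CC) : LL := ⟨(2 : ℤ) • iw c, two_iz_mem (support_mem_CW.2 c.2)⟩
/-- four times an even word -/
noncomputable def n4 (a : Wd) : LL := toL ((4 : ℤ) • iw a)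
theorem coe_n2 (c : CC) (p : GolayPt) : (n2 c : ZV) p = 2 * iw c p := rfl
theorem coe_n4 {a : Wd} (ha : ∑ p, a p = 0) : (n4 a : ZV) = (4 : ℤ) • iw a :=
  coe_toL (four_mem (by rw [sum_iw]; exact_mod_cast even_wt ha))
theorem ee_n2 (c : CC) : ee (n2 c) = c + PP c • Om := by
  rw [ee_eq (m := 0) (k := (wt c / 4 : ℕ)) (t := 0) (c := c) (y := 0) (fun p => by simp [coe_n2])
    (by have := wt_cases c; omega) (by simp), PP]
  simp only [zero_add, add_zero, Int.cast_natCast]
theorem ee_n4 {a : Wd} (ha : ∑ p, a p = 0) : ee (n4 a) = hw a • Om := by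
  rw [ee_eq (m := 0) (k := 0) (t := (wt a / 2 : ℕ)) (c := 0) (y := iw a) (fun p => by
    simp [coe_n4 ha, iw, support₂, iz]) (by simp [wt_zero]) (by rw [sum_iw]; have := even_wt ha; omega), hw]
  simp only [zero_add, Int.cast_natCast]
theorem map_smul2 {A B : Type*} [AddCommGroup A] [AddCommGroup B] [Module (ZMod 2) A] [Module (ZMod 2) B]
    (f : A →+ B) (t : ZMod 2) (a : A) : f (t • a) = t • f a := by
  rcases zmod2_cases t with rfl | rfl <;> simp
theorem ph_n2_Om (c : CC) : ph (n2 c) Om = 0 := by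
  rw [ph_Om _ (pt 0), coe_n2]; simp [show (2 : ZMod 2) = 0 from rfl]
theorem ph_eq (v : LL) (g : CC) : ph v g = dp v (n2 g) + ph (n2 g) (ee v) + PP g * ph v Om := by
  rw [← ph_polar, ee_n2, map_add, map_smul2, smul_eq_mul]
  linear_combination -z2 (ph (n2 g) (ee v)) - z2 (PP g * ph v Om)
theorem ph_lam (i : GolayPt) (g : CC) : ph (lam i) g = (g : Wd) i := by
  obtain ⟨w, rfl⟩ : ∃ w, ee w = g := by
    rcases zmod2_cases (PP g) with h | h
    · exact ⟨n2 g, by rw [ee_n2, h, zero_smul, add_zero]⟩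
    · exact ⟨n2 g + E8 i, by rw [map_add, ee_n2, h, one_smul, ee_E8, add_assoc, cc2, add_zero]⟩
  have := ph_polar (lam i) w
  rwa [ee_lam, map_zero, add_zero, dp_comm] at this
theorem ph_n4 {a : Wd} (ha : ∑ p, a p = 0) (g : CC) : ph (n4 a) g = ip a g := by
  rw [ph_eq, ee_n4 ha, map_smul2, ph_n2_Om, ph_Om _ (pt 0), dp_of (k := wt (a * g)) (by
    simp only [coe_n4 ha, dotInt, coe_n2, ← sum_iw, iw_mul, Finset.mul_sum, Pi.smul_apply, smul_eq_mul]
    exact Finset.sum_congr rfl fun p _ => by ring), ip_eq, coe_n4 ha]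
  simp [show (4 : ZMod 2) = 0 from rfl]

/-- the cocycle of the Parker loop -/
noncomputable def th (c d : CC) : ZMod 2 := ph (n2 c) d
theorem th_add_right (c d e : CC) : th c (d + e) = th c d + th c e := map_add _ _ _
@[simp] theorem th_Om (c : CC) : th c Om = 0 := ph_n2_Om c
theorem th_smul_Om (c : CC) (t : ZMod 2) : th c (t • Om) = 0 := by rw [th, map_smul2, ph_n2_Om, smul_zero]
theorem n2_add (c d : CC) : n2 c + n2 d = n2 (c + d) + n4 ((c : Wd) * d) := Subtype.ext <| funext fun p => by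
  have := iw_add c d p
  simp only [AddSubgroup.coe_add, Pi.add_apply, coe_n2, coe_n4 (a := (c : Wd) * d) (ip_code c d), Pi.smul_apply, smul_eq_mul,
    Submodule.coe_add]
  omega
theorem th_add_left (c d e : CC) : th (c + d) e = th c e + th d e + ip ((c : Wd) * d) e := by
  have := congrArg (fun v => ph v e) (n2_add c d)
  simp only [map_add, AddMonoidHom.add_apply, ph_n4 (a := (c : Wd) * d) (ip_code c d)] at this
  rw [th, th, th, this, add_assoc, z2, add_zero]
theorem th_self (c : CC) : th c c = PP c := by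
  have := ph_self (n2 c)
  rw [ee_n2, map_add, map_smul2, ph_n2_Om, smul_zero, add_zero, qq_of (k := (wt c / 4 : ℕ)) (by
    have : sqNorm (n2 c : ZV) = 4 * wt c := by
      simp only [sqNorm, coe_n2, ← sum_iw, Finset.mul_sum]
      exact Finset.sum_congr rfl fun p _ => by rcases iw_cases c p with h | h <;> rw [h.2] <;> rfl
    have := wt_cases c; omega)] at this
  exact this.trans (Int.cast_natCast _)
theorem th_polar (c d : CC) : th c d + th d c = hw ((c : Wd) * d) := by
  have := th_self (c + d)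
  rw [PP_add, th_add_left, th_add_right, th_add_right, th_self, th_self, Submodule.coe_add, ip_add_right,
    ip_mul, ip_mul, wd_mul_self, mul_comm, ← ip_mul, wd_mul_self, ip_code] at this
  linear_combination this
theorem th_Om_left (d : CC) : th Om d = 0 := by
  have := th_polar Om d
  rwa [th_Om, add_zero, Om_val, one_mul, hw_code] at this
theorem th_add_Om (c d : CC) (t : ZMod 2) : th (c + t • Om) d = th c d := by
  rcases zmod2_cases t with rfl | rfl
  · rw [zero_smul, add_zero]
  · rw [one_smul, th_add_left, th_Om_left, Om_val, mul_one, ip_code, add_zero, add_zero]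

/-! ### the Heisenberg representation -/

/-- signs -/
def sn (a : ZMod 2) : FF := if a = 0 then 1 else -1
@[simp] theorem sn_zero : sn 0 = 1 := rfl
@[simp] theorem sn_one : sn 1 = -1 := rfl
theorem sn_add (a b : ZMod 2) : sn (a + b) = sn a * sn b := by revert a b; decide
@[simp] theorem sn_mul_self (a : ZMod 2) : sn a * sn a = 1 := by revert a; decide
theorem sn_ne_zero (a : ZMod 2) : sn a ≠ 0 := by revert a; decide
theorem sn_inj {a b : ZMod 2} (h : sn a = sn b) : a = b := by revert a b; decide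
theorem exists_sn {c : FF} (h : c * c = 1) : ∃ a, c = sn a :=
  (mul_self_eq_one_iff.1 h).elim (fun h => ⟨0, h⟩) fun h => ⟨1, h⟩

/-- the operator of a lattice vector -/
noncomputable def xm (v : LL) : Matrix CC CC FF := fun c d => if c = d + ee v then sn (ph v d) else 0
theorem xm_mul (v w : LL) : xm v * xm w = sn (ph v (ee w)) • xm (v + w) := by
  ext c d
  simp only [mul_apply, xm, mul_ite, mul_zero, Finset.sum_ite_eq', Finset.mem_univ, if_true, Matrix.smul_apply, map_add,
    smul_eq_mul, AddMonoidHom.add_apply, sn_add, add_assoc, add_comm (ee w)]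
  split_ifs <;> ring
theorem xm_cg {v w : LL} (h : Cg v w) : xm v = xm w := by
  ext c d; simp only [xm, ee_cg h, ph_cg h]
theorem xm_zero : xm 0 = 1 := by
  ext c d; simp [xm, one_apply]
theorem xm_of_cg {v : LL} (h : Cg v 0) : xm v = 1 := (xm_cg (w := 0) h).trans xm_zero
theorem xm_neg (v : LL) : xm (-v) = xm v := xm_cg (cg_neg v.2)
theorem xm_sq (v : LL) : xm v * xm v = sn (qq v) • (1 : Matrix CC CC FF) := by
  rw [xm_mul, ph_self, xm_of_cg (cg_add_self v.2)]
theorem xm_transpose (v : LL) : (xm v)ᵀ = sn (qq v) • xm v := by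
  ext c d
  simp only [transpose_apply, xm, Matrix.smul_apply, smul_eq_mul]
  by_cases h : d = c + ee v
  · subst h
    rw [if_pos rfl, if_pos (by rw [add_assoc, cc2, add_zero]), map_add, ph_self, sn_add, mul_left_comm, sn_mul_self,
      mul_one]
  · rw [if_neg h, if_neg (fun k => h (by rw [k, add_assoc, cc2, add_zero])), mul_zero]
theorem xm_orth (v : LL) : xm v * (xm v)ᵀ = 1 := by
  rw [xm_transpose, mul_smul_comm, xm_sq, smul_smul, sn_mul_self, one_smul]
theorem xm_comm (v w : LL) : xm v * xm w = sn (dp v w) • (xm w * xm v) := by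
  rw [xm_mul, xm_mul, smul_smul, ← sn_add, ← ph_polar, add_assoc, z2, add_zero, add_comm]

/-- the number of code words -/
noncomputable def nC : FF := Fintype.card CC
theorem nC_ne : nC ≠ 0 := by
  rw [nC, ← Nat.card_eq_fintype_card, Module.natCard_eq_pow_finrank (K := ZMod 2), Nat.card_zmod, Nat.cast_pow]
  exact pow_ne_zero _ (by decide)
theorem sum_sn {f : CC →+ ZMod 2} {g : CC} (h : f g ≠ 0) : ∑ d, sn (f d) = 0 := by
  have h1 : f g = 1 := (zmod2_cases _).resolve_left h
  have := Equiv.sum_comp (Equiv.addRight g) fun d => sn (f d)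
  simp only [Equiv.coe_addRight, map_add, h1, sn_add, sn_one, mul_neg, mul_one, Finset.sum_neg_distrib] at this
  have h2 : (2 : FF) * ∑ d, sn (f d) = 0 := by linear_combination -this
  exact (mul_eq_zero.1 h2).resolve_left (by decide)
theorem trace_xm_of_not {v : LL} (h : ¬ Cg v 0) : (xm v).trace = 0 := by
  rw [cg_zero_iff', not_and_or, not_forall] at h
  simp only [trace, diag, xm, left_eq_add]
  by_cases h0 : ee v = 0
  · obtain ⟨g, hg⟩ := h.resolve_left (not_not.2 h0)
    simp only [h0, if_true, sum_sn hg]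
  · simp [h0]
theorem trace_xm_of {v : LL} (h : Cg v 0) : (xm v).trace = nC := by rw [xm_of_cg h, trace_one, nC]

end CA.Gr
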